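import Groth.Agent.Etdl.H440.Geo
import Groth.Agent.Sga4B.EtCoords

/-!
# Charts at a section (route C geometry): (RK) and (R2)
-/

set_option autoImplicit false
universe u
open CategoryTheory CategoryTheory.Limits AlgebraicGeometry Opposite

namespace Groth.Agent.Etdl.H576.Charts

open Groth.Agent.Etdl.H440.Geo

noncomputable section

theorem comp_lift {A B X Y S : Scheme.{u}} (f : X ⟶ S) (g : Y ⟶ S) (a : A ⟶ B) (x : B ⟶ X) (y : B ⟶ Y)
    (h : x ≫ f = y ≫ g) (w : A ⟶ X) (hw : w = a ≫ x) (h' : w ≫ f = (a ≫ y) ≫ g) :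
    pullback.lift (f := f) (g := g) w (a ≫ y) h' = a ≫ pullback.lift (f := f) (g := g) x y h := by
  subst hw
  apply pullback.hom_ext
  · exact (pullback.lift_fst _ _ _).trans (by rw [Category.assoc a, pullback.lift_fst])
  · exact (pullback.lift_snd _ _ _).trans (by rw [Category.assoc a, pullback.lift_snd])

/-- the complement of a section in the preimage of a closed section is closed -/
theorem isClosed_diff {W V T : Scheme.{u}} (q : W ⟶ V) [Etale q] (y : T ⟶ V) [IsClosedImmersion y]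
    (σ : T ⟶ W) (hσ : σ ≫ q = y) :
    IsClosed ((q ⁻¹' Set.range y) \ Set.range σ) := by
  let s : T ⟶ pullback q y := pullback.lift σ (𝟙 T) (by rw [hσ, Category.id_comp])
  have hs2 : s ≫ pullback.snd q y = 𝟙 T := pullback.lift_snd _ _ _
  have hs1 : s ≫ pullback.fst q y = σ := pullback.lift_fst _ _ _
  have : Etale (s ≫ pullback.snd q y) := by rw [hs2]; infer_instance
  have : Etale s := Etale.of_comp s (pullback.snd q y)
  have ho : IsOpen (Set.range s) := s.isOpenMap.isOpen_range
  have hemb : Topology.IsClosedEmbedding (pullback.fst q y) := (pullback.fst q y).isClosedEmbedding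
  have h := hemb.isClosedMap _ ho.isClosed_compl
  have heq : (pullback.fst q y) '' (Set.range s)ᶜ = (q ⁻¹' Set.range y) \ Set.range σ := by
    rw [← Scheme.Pullback.range_fst, ← hs1, Scheme.Hom.comp_base, TopCat.coe_comp, Set.range_comp]
    ext z
    constructor
    · rintro ⟨w, hw, rfl⟩
      refine ⟨⟨w, rfl⟩, ?_⟩
      rintro ⟨w', hw', he⟩
      exact hw (hemb.injective he ▸ hw')
    · rintro ⟨⟨w, rfl⟩, hw⟩
      exact ⟨w, fun h => hw ⟨w, h, rfl⟩, rfl⟩
  rwa [heq] at h

/-! ### The zero section of affine space -/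

/-- the zero section of affine space -/
def zero (T : Scheme.{u}) (d : ℕ) : T ⟶ 𝔸(Ix.{u} d; T) :=
  AffineSpace.homOfVector (𝟙 T) (fun _ => 0)

theorem zero_over (T : Scheme.{u}) (d : ℕ) : zero T d ≫ (𝔸(Ix.{u} d; T) ↘ T) = 𝟙 T :=
  AffineSpace.homOfVector_over _ _

theorem zero_appTop (T : Scheme.{u}) (d : ℕ) (l : Ix.{u} d) :
    (zero T d).appTop (AffineSpace.coord T l) = 0 := by
  rw [zero, AffineSpace.homOfVector_appTop_coord]

instance (T : Scheme.{u}) (d : ℕ) : IsClosedImmersion (zero T d) := by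
  have h : IsClosedImmersion (zero T d ≫ (𝔸(Ix.{u} d; T) ↘ T)) := by
    rw [zero_over]
    infer_instance
  exact IsClosedImmersion.of_comp (zero T d) (𝔸(Ix.{u} d; T) ↘ T)

theorem mem_range_zero {W T : Scheme.{u}} {d : ℕ} (v : W ⟶ T) (c : Ix.{u} d → Γ(W, ⊤)) (z : W) :
    AffineSpace.homOfVector v c z ∈ Set.range (zero T d) ↔ ∀ l, z ∉ W.basicOpen (c l) := by
  constructor
  · rintro ⟨t, ht⟩ l hl
    have h1 : c l = (AffineSpace.homOfVector v c).appTop (AffineSpace.coord T l) :=
      (AffineSpace.homOfVector_appTop_coord v c l).symm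
    rw [h1] at hl
    have h2 : AffineSpace.homOfVector v c z ∈ Scheme.basicOpen _ (AffineSpace.coord T l) := by
      rw [← Scheme.preimage_basicOpen_top] at hl
      exact hl
    rw [← ht] at h2
    have h3 : t ∈ T.basicOpen ((zero T d).appTop (AffineSpace.coord T l)) := by
      rw [← Scheme.preimage_basicOpen_top]
      exact h2
    rw [zero_appTop, Scheme.basicOpen_zero] at h3
    exact h3
  · intro h
    have h1 : W.fromSpecResidueField z ≫ AffineSpace.homOfVector v c =
        (W.fromSpecResidueField z ≫ v) ≫ zero T d := by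
      apply AffineSpace.hom_ext
      · rw [Category.assoc, AffineSpace.homOfVector_over, Category.assoc, zero_over, Category.comp_id]
      · intro l
        rw [Scheme.Hom.comp_appTop, Scheme.Hom.comp_appTop, CommRingCat.comp_apply, CommRingCat.comp_apply,
          AffineSpace.homOfVector_appTop_coord, zero_appTop, map_zero]
        rw [← basicOpen_eq_bot_iff, ← Scheme.preimage_basicOpen_top]
        ext x
        constructor
        · intro hx
          have hx' : W.fromSpecResidueField z x ∈ W.basicOpen (c l) := hx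
          rw [Scheme.fromSpecResidueField_apply] at hx'
          exact (h l hx').elim
        · intro hx
          exact hx.elim
    obtain ⟨x⟩ : Nonempty (Spec (W.residueField z)) := inferInstance
    refine ⟨v z, ?_⟩
    have h2 := congrArg (fun f : Spec (W.residueField z) ⟶ _ => f x) h1
    simp only [Scheme.Hom.comp_apply, Scheme.fromSpecResidueField_apply] at h2
    exact h2.symm

/-- translation -/
def tr {T : Scheme.{u}} {d : ℕ} (b : Ix.{u} d → Γ(T, ⊤)) : 𝔸(Ix.{u} d; T) ⟶ 𝔸(Ix.{u} d; T) :=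
  AffineSpace.homOfVector (𝔸(Ix.{u} d; T) ↘ T)
    (fun l => AffineSpace.coord T l - (𝔸(Ix.{u} d; T) ↘ T).appTop (b l))

theorem comp_tr {W T : Scheme.{u}} {d : ℕ} (b : Ix.{u} d → Γ(T, ⊤)) (v : W ⟶ T) (c : Ix.{u} d → Γ(W, ⊤)) :
    AffineSpace.homOfVector v c ≫ tr b = AffineSpace.homOfVector v (fun l => c l - v.appTop (b l)) := by
  unfold tr
  rw [AffineSpace.comp_homOfVector, AffineSpace.homOfVector_over]
  congr 1
  funext l
  rw [Function.comp_apply, map_sub, AffineSpace.homOfVector_appTop_coord, ← CommRingCat.comp_apply,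
    ← Scheme.Hom.comp_appTop, AffineSpace.homOfVector_over]

theorem tr_tr {T : Scheme.{u}} {d : ℕ} (b b' : Ix.{u} d → Γ(T, ⊤)) (h : ∀ l, b l + b' l = 0) :
    tr b ≫ tr b' = 𝟙 _ := by
  conv_lhs => rw [tr]
  rw [comp_tr]
  apply AffineSpace.hom_ext
  · rw [AffineSpace.homOfVector_over, Category.id_comp]
  · intro l
    rw [AffineSpace.homOfVector_appTop_coord, sub_sub, ← map_add, h, map_zero, sub_zero]
    simp

instance {T : Scheme.{u}} {d : ℕ} (b : Ix.{u} d → Γ(T, ⊤)) : IsIso (tr b) :=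
  ⟨tr (fun l => - b l), tr_tr _ _ (fun l => add_neg_cancel _), tr_tr _ _ (fun l => neg_add_cancel _)⟩

theorem rk {S X Y T : Scheme.{u}} (p : Y ⟶ S) [IsSeparated p] (j : X ⟶ Y) [Etale j] (d : ℕ) (τ : T ⟶ S)
    (W : Scheme.{u}) (i : W ⟶ X) (v : W ⟶ T) (hv : v ≫ τ = i ≫ j ≫ p)
    (hio : IsOpenImmersion (pullback.lift (f := j ≫ p) (g := τ) i v hv.symm))
    (c : Ix.{u} d → Γ(W, ⊤)) (hc : Etale (AffineSpace.homOfVector v c))
    (σ : T ⟶ W) (hσ : σ ≫ v = 𝟙 T) :
    ∃ (C : SChart p j d τ) (_ : C.Et) (g : C.W ⟶ W) (_ : IsOpenImmersion g),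
      g ≫ i = C.i ∧ g ≫ v = C.v ∧ C.σ ≫ g = σ ∧
        (∀ l, C.c l = g.appTop (c l - v.appTop (σ.appTop (c l)))) ∧
        ∀ z : W, ((∀ l, z ∉ W.basicOpen (c l - v.appTop (σ.appTop (c l)))) → z ∈ Set.range σ) →
          (∀ z' ∈ Set.range σ,
            pullback.lift (f := p) (g := τ) (i ≫ j) v (by rw [Category.assoc, hv]) z =
            pullback.lift (f := p) (g := τ) (i ≫ j) v (by rw [Category.assoc, hv]) z' →
              z ∈ Set.range σ) → z ∈ Set.range g := by
  let c' : Ix.{u} d → Γ(W, ⊤) := fun l => c l - v.appTop (σ.appTop (c l))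
  have hc' : Etale (AffineSpace.homOfVector v c') := by
    have : AffineSpace.homOfVector v c' = AffineSpace.homOfVector v c ≫ tr (fun l => σ.appTop (c l)) :=
      (comp_tr _ _ _).symm
    rw [this]
    infer_instance
  have hσc' : ∀ l, σ.appTop (c' l) = 0 := by
    intro l
    change σ.appTop (c l - v.appTop (σ.appTop (c l))) = 0
    rw [map_sub, ← CommRingCat.comp_apply, ← Scheme.Hom.comp_appTop, hσ]
    simp
  have hσz : σ ≫ AffineSpace.homOfVector v c' = zero T d := by
    apply AffineSpace.hom_ext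
    · rw [Category.assoc, AffineSpace.homOfVector_over, hσ, zero_over]
    · intro l
      rw [Scheme.Hom.comp_appTop, CommRingCat.comp_apply, AffineSpace.homOfVector_appTop_coord, hσc', zero_appTop]
  let q : W ⟶ pullback p τ := pullback.lift (i ≫ j) v (by rw [Category.assoc, hv])
  have hq : Etale q := by
    let m : pullback (j ≫ p) τ ⟶ pullback p τ := pullback.map (j ≫ p) τ p τ j (𝟙 T) (𝟙 S) (by simp) (by simp)
    have m1 : m ≫ pullback.fst p τ = pullback.fst (j ≫ p) τ ≫ j := pullback.lift_fst _ _ _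
    have m2 : m ≫ pullback.snd p τ = pullback.snd (j ≫ p) τ ≫ 𝟙 T := pullback.lift_snd _ _ _
    have h1 : q = pullback.lift (f := j ≫ p) (g := τ) i v hv.symm ≫ m := by
      apply pullback.hom_ext
      · rw [Category.assoc, m1, pullback.lift_fst_assoc]
        exact pullback.lift_fst _ _ _
      · rw [Category.assoc, m2, pullback.lift_snd_assoc, Category.comp_id]
        exact pullback.lift_snd _ _ _
    have h2 : Etale m :=
      MorphismProperty.pullbackMap (P := @Etale) (by infer_instance) (by infer_instance) rfl (by simp)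
    rw [h1]
    infer_instance
  have hqs : q ≫ pullback.snd p τ = v := pullback.lift_snd _ _ _
  have hy : IsClosedImmersion (σ ≫ q) := by
    have h1 : IsClosedImmersion ((σ ≫ q) ≫ pullback.snd p τ) := by
      rw [Category.assoc, hqs, hσ]
      infer_instance
    exact IsClosedImmersion.of_comp (σ ≫ q) (pullback.snd p τ)
  let A : Set W := (AffineSpace.homOfVector v c' ⁻¹' Set.range (zero T d)) \ Set.range σ
  let B : Set W := (q ⁻¹' Set.range (σ ≫ q)) \ Set.range σ
  have hA : IsClosed A := isClosed_diff _ _ σ hσz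
  have hB : IsClosed B := isClosed_diff _ _ σ rfl
  let U : W.Opens := ⟨(A ∪ B)ᶜ, (hA.union hB).isOpen_compl⟩
  have hU : ∀ z : W, z ∈ U ↔ ((∀ l, z ∉ W.basicOpen (c' l)) → z ∈ Set.range σ) ∧
      (q z ∈ Set.range (σ ≫ q) → z ∈ Set.range σ) := by
    intro z
    rw [← mem_range_zero v c' z]
    change ¬ (z ∈ A ∨ z ∈ B) ↔ _
    rw [not_or]
    simp only [A, B, Set.mem_sdiff, Set.mem_preimage, not_and, not_not]
  have hσU : Set.range σ ⊆ Set.range U.ι := by
    rw [Scheme.Opens.range_ι]
    intro z hz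
    exact (hU z).2 ⟨fun _ => hz, fun _ => hz⟩
  let σ' : T ⟶ U := IsOpenImmersion.lift U.ι σ hσU
  have hσ' : σ' ≫ U.ι = σ := IsOpenImmersion.lift_fac _ _ _
  have hrange : ∀ z : U, U.ι z ∈ Set.range σ → z ∈ Set.range σ' := by
    rintro z ⟨t, ht⟩
    refine ⟨t, U.ι.isOpenEmbedding.injective ?_⟩
    rw [← Scheme.Hom.comp_apply, hσ', ht]
  refine ⟨{ W := U, i := U.ι ≫ i, v := U.ι ≫ v, hv := by simp [hv], io := ?_,
            c := fun l => U.ι.appTop (c' l), σ := σ', σv := by rw [← Category.assoc, hσ', hσ], σc := ?_,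
            uniq := ?_, uniqY := ?_ }, ?_, U.ι, inferInstance, rfl, rfl, hσ', fun l => rfl, ?_⟩
  · have h1 : pullback.lift (f := j ≫ p) (g := τ) (U.ι ≫ i) (U.ι ≫ v) (by simp [hv]) =
        U.ι ≫ pullback.lift (f := j ≫ p) (g := τ) i v hv.symm := comp_lift _ _ _ _ _ _ _ rfl _
    rw [h1]
    infer_instance
  · intro l
    rw [← CommRingCat.comp_apply, ← Scheme.Hom.comp_appTop, hσ', hσc']
  · intro z hz
    apply hrange
    refine ((hU _).1 z.2).1 fun l hl => hz l ?_
    rw [← Scheme.preimage_basicOpen_top]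
    exact hl
  · intro z z' hz' he
    have h1 : pullback.lift (f := p) (g := τ) ((U.ι ≫ i) ≫ j) (U.ι ≫ v) (by simp [hv]) = U.ι ≫ q :=
      comp_lift _ _ _ _ _ _ _ (Category.assoc _ _ _) _
    have he' : q (U.ι z) = q (U.ι z') := by
      rw [← Scheme.Hom.comp_apply, ← Scheme.Hom.comp_apply, ← h1]
      exact he
    obtain ⟨t', ht'⟩ := hz'
    have ht2 : U.ι z' = σ t' := by rw [← ht', ← Scheme.Hom.comp_apply, hσ']
    obtain ⟨t, ht⟩ := ((hU _).1 z.2).2 ⟨t', by
      rw [Scheme.Hom.comp_apply, ← ht2]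
      exact he'.symm⟩
    have ht3 : U.ι z = σ t := ht.symm
    have h2 : t = t' := by
      have h3 := congrArg (pullback.snd p τ) he'
      rw [← Scheme.Hom.comp_apply q, ← Scheme.Hom.comp_apply q, hqs, ht3, ht2, ← Scheme.Hom.comp_apply,
        ← Scheme.Hom.comp_apply, hσ] at h3
      exact h3
    apply U.ι.isOpenEmbedding.injective
    rw [ht3, ht2, h2]
  · change Etale (AffineSpace.homOfVector (U.ι ≫ v) (fun l => U.ι.appTop (c' l)))
    have h1 : AffineSpace.homOfVector (U.ι ≫ v) (fun l => U.ι.appTop (c' l)) =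
        U.ι ≫ AffineSpace.homOfVector v c' := (AffineSpace.comp_homOfVector _ _ _).symm
    rw [h1]
    infer_instance
  · intro z h1 h2
    rw [Scheme.Opens.range_ι]
    refine (hU z).2 ⟨h1, ?_⟩
    rintro ⟨t, ht⟩
    exact h2 (σ t) ⟨t, rfl⟩ (by rw [Scheme.Hom.comp_apply] at ht; exact ht.symm)

theorem stmtRK : StmtRK.{u} := by
  intro S X Y T p _ j _ d τ W i v _ hv hio c hc σ hσ
  exact rk p j d τ W i v hv hio c hc σ hσ

theorem stmtR2 : StmtR2.{u} := by
  intro S X Y T p _ j _ d _ τ σ hσ t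
  have := smoothOfRelativeDimension_isStableUnderBaseChange.{u} d
  have hsm : SmoothOfRelativeDimension d (pullback.snd (j ≫ p) τ) :=
    MorphismProperty.pullback_snd (P := @SmoothOfRelativeDimension d) _ _ inferInstance
  let XT := pullback (j ≫ p) τ
  let σT : T ⟶ XT := pullback.lift σ (𝟙 T) (by rw [hσ, Category.id_comp])
  obtain ⟨V, w, -, hxV, -, hw, hw2⟩ := Sga4B.EtCoords.exists_etale_affineSpace (pullback.snd (j ≫ p) τ) d (σT t) ⊤
    (by trivial)
  let T' : T.Opens := σT ⁻¹ᵁ V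
  let W := pullback (V.ι ≫ pullback.snd (j ≫ p) τ) T'.ι
  let i : W ⟶ X := pullback.fst _ _ ≫ V.ι ≫ pullback.fst (j ≫ p) τ
  let v : W ⟶ T' := pullback.snd _ _
  have hv : v ≫ T'.ι ≫ τ = i ≫ j ≫ p := by
    simp only [v, i, Category.assoc]
    rw [pullback.condition, ← pullback.condition_assoc]
    simp
  have hio : IsOpenImmersion (pullback.lift (f := j ≫ p) (g := T'.ι ≫ τ) i v hv.symm) := by
    let g : pullback (j ≫ p) (T'.ι ≫ τ) ⟶ pullback (j ≫ p) τ :=
      pullback.map _ _ _ _ (𝟙 X) T'.ι (𝟙 S) (by simp) (by simp)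
    have hg : IsOpenImmersion g :=
      MorphismProperty.pullbackMap (P := @IsOpenImmersion) (by infer_instance) (by infer_instance) (by simp) rfl
    have g1 : g ≫ pullback.fst (j ≫ p) τ = pullback.fst (j ≫ p) (T'.ι ≫ τ) ≫ 𝟙 X := pullback.lift_fst _ _ _
    have g2 : g ≫ pullback.snd (j ≫ p) τ = pullback.snd (j ≫ p) (T'.ι ≫ τ) ≫ T'.ι := pullback.lift_snd _ _ _
    have h1 : pullback.lift (f := j ≫ p) (g := T'.ι ≫ τ) i v hv.symm ≫ g = pullback.fst _ _ ≫ V.ι := by
      apply pullback.hom_ext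
      · rw [Category.assoc _ g, g1, pullback.lift_fst_assoc, Category.comp_id, Category.assoc]
      · rw [Category.assoc _ g, g2, pullback.lift_snd_assoc, Category.assoc]
        exact pullback.condition.symm
    have h2 : IsOpenImmersion (pullback.lift (f := j ≫ p) (g := T'.ι ≫ τ) i v hv.symm ≫ g) := by
      rw [h1]
      infer_instance
    exact IsOpenImmersion.of_comp _ g
  let c : Ix.{u} d → Γ(W, ⊤) := fun l => (pullback.fst _ _ ≫ w).appTop (AffineSpace.coord T l)
  have hc : Etale (AffineSpace.homOfVector v c) := by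
    have h1 : AffineSpace.homOfVector v c ≫ AffineSpace.map _ T'.ι = pullback.fst _ _ ≫ w := by
      apply AffineSpace.hom_ext
      · rw [Category.assoc, AffineSpace.map_over, AffineSpace.homOfVector_over_assoc, Category.assoc, hw2]
        exact pullback.condition.symm
      · intro l
        rw [Scheme.Hom.comp_appTop, CommRingCat.comp_apply, AffineSpace.map_appTop_coord,
          AffineSpace.homOfVector_appTop_coord]
    have h2 : Etale (AffineSpace.homOfVector v c ≫ AffineSpace.map _ T'.ι) := by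
      rw [h1]
      infer_instance
    exact Etale.of_comp _ (AffineSpace.map _ T'.ι)
  have hlift : Set.range (T'.ι ≫ σT) ⊆ Set.range V.ι := by
    rw [Scheme.Opens.range_ι]
    rintro _ ⟨x, rfl⟩
    rw [Scheme.Hom.comp_apply]
    exact x.2
  let s : (T' : Scheme.{u}) ⟶ V := IsOpenImmersion.lift V.ι (T'.ι ≫ σT) hlift
  have hs : s ≫ V.ι = T'.ι ≫ σT := IsOpenImmersion.lift_fac _ _ _
  have hσT2 : σT ≫ pullback.snd (j ≫ p) τ = 𝟙 T := pullback.lift_snd _ _ _
  have hσT1 : σT ≫ pullback.fst (j ≫ p) τ = σ := pullback.lift_fst _ _ _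
  let σ' : (T' : Scheme.{u}) ⟶ W := pullback.lift s (𝟙 _) (by
    rw [← Category.assoc, hs, Category.assoc, hσT2, Category.comp_id, Category.id_comp])
  obtain ⟨C, hC, g, -, hgi, -, hgσ, -⟩ := rk p j d (T'.ι ≫ τ) W i v hv hio c hc σ' (pullback.lift_snd _ _ _)
  refine ⟨T', hxV, C, hC, ?_⟩
  rw [← hgi, ← Category.assoc, hgσ]
  simp only [σ', i]
  rw [pullback.lift_fst_assoc, ← Category.assoc, hs, Category.assoc, hσT1]

end

end Groth.Agent.Etdl.H576.Charts
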